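import Mathlib

/-!
# Affine fibre products over a separated base: `Γ(X) ⊗ Γ(Y) → Γ(X ×_S Y)` is surjective
(first part copied from helper3's `AlgSpMor/SepAffine.lean`, which only depends on Mathlib, to keep
the import closure light).
-/

set_option autoImplicit false
set_option linter.unusedSectionVars false
universe u
open CategoryTheory CategoryTheory.Limits AlgebraicGeometry Topology TopologicalSpace

namespace Groth.Agent.H5.Curve1.SepTens

open TensorProduct

variable {X Y T : Scheme.{u}}

/-- The tensor product (over `ℤ`) of the rings of global sections. -/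
abbrev tens (X Y : Scheme.{u}) : CommRingCat.{u} := CommRingCat.of (Γ(X, ⊤) ⊗[ℤ] Γ(Y, ⊤))

/-- The ring map `Γ(X) ⊗ Γ(Y) ⟶ Γ(T)` induced by `t1 : T ⟶ X`, `t2 : T ⟶ Y`. -/
noncomputable abbrev prodRingMap (t1 : T ⟶ X) (t2 : T ⟶ Y) : tens X Y ⟶ Γ(T, ⊤) :=
  CommRingCat.ofHom (Algebra.TensorProduct.productMap t1.appTop.hom.toIntAlgHom
    t2.appTop.hom.toIntAlgHom).toRingHom

noncomputable abbrev inlHom (X Y : Scheme.{u}) : Γ(X, ⊤) ⟶ tens X Y :=
  CommRingCat.ofHom (Algebra.TensorProduct.includeLeft (R := ℤ) (S := ℤ)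
    (A := Γ(X, ⊤)) (B := Γ(Y, ⊤))).toRingHom

noncomputable abbrev inrHom (X Y : Scheme.{u}) : Γ(Y, ⊤) ⟶ tens X Y :=
  CommRingCat.ofHom (Algebra.TensorProduct.includeRight (R := ℤ)
    (A := Γ(X, ⊤)) (B := Γ(Y, ⊤))).toRingHom

lemma inlHom_prodRingMap (t1 : T ⟶ X) (t2 : T ⟶ Y) :
    inlHom X Y ≫ prodRingMap t1 t2 = t1.appTop := by
  ext x
  simp [inlHom, prodRingMap]

lemma inrHom_prodRingMap (t1 : T ⟶ X) (t2 : T ⟶ Y) :
    inrHom X Y ≫ prodRingMap t1 t2 = t2.appTop := by
  ext x
  simp [inrHom, prodRingMap]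

lemma tens_hom_ext {R : CommRingCat.{u}} {f g : tens X Y ⟶ R}
    (h1 : inlHom X Y ≫ f = inlHom X Y ≫ g) (h2 : inrHom X Y ≫ f = inrHom X Y ≫ g) : f = g := by
  ext x
  · have h1' := congrArg (fun φ => φ.hom x) h1
    simpa using h1'
  · have h2' := congrArg (fun φ => φ.hom x) h2
    simpa using h2'

/-- The morphism `T ⟶ Spec (Γ(X) ⊗ Γ(Y))` induced by `t1`, `t2`. -/
noncomputable def toSpecTens (t1 : T ⟶ X) (t2 : T ⟶ Y) : T ⟶ Spec (tens X Y) :=
  T.toSpecΓ ≫ Spec.map (prodRingMap t1 t2)

/-- first projection `Spec (Γ(X) ⊗ Γ(Y)) ⟶ X` for `X` affine. -/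
noncomputable def specTensFst (X Y : Scheme.{u}) [IsAffine X] : Spec (tens X Y) ⟶ X :=
  Spec.map (inlHom X Y) ≫ X.isoSpec.inv

noncomputable def specTensSnd (X Y : Scheme.{u}) [IsAffine Y] : Spec (tens X Y) ⟶ Y :=
  Spec.map (inrHom X Y) ≫ Y.isoSpec.inv

lemma toSpecTens_fst [IsAffine X] (t1 : T ⟶ X) (t2 : T ⟶ Y) :
    toSpecTens t1 t2 ≫ specTensFst X Y = t1 := by
  rw [toSpecTens, specTensFst, Category.assoc, ← Spec.map_comp_assoc, inlHom_prodRingMap,
    ← Scheme.toSpecΓ_naturality_assoc, ← Scheme.isoSpec_hom, Iso.hom_inv_id, Category.comp_id]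

lemma toSpecTens_snd [IsAffine Y] (t1 : T ⟶ X) (t2 : T ⟶ Y) :
    toSpecTens t1 t2 ≫ specTensSnd X Y = t2 := by
  rw [toSpecTens, specTensSnd, Category.assoc, ← Spec.map_comp_assoc, inrHom_prodRingMap,
    ← Scheme.toSpecΓ_naturality_assoc, ← Scheme.isoSpec_hom, Iso.hom_inv_id, Category.comp_id]

lemma specTens_hom_ext [IsAffine X] [IsAffine Y] {m m' : T ⟶ Spec (tens X Y)}
    (h1 : m ≫ specTensFst X Y = m' ≫ specTensFst X Y)
    (h2 : m ≫ specTensSnd X Y = m' ≫ specTensSnd X Y) : m = m' := by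
  apply ext_of_isAffine
  rw [← cancel_epi (Scheme.ΓSpecIso (tens X Y)).inv]
  apply tens_hom_ext
  · have h1' : m ≫ Spec.map (inlHom X Y) = m' ≫ Spec.map (inlHom X Y) := by
      simpa [specTensFst] using h1
    have := congrArg (fun φ => (Scheme.ΓSpecIso _).inv ≫ Scheme.Hom.appTop φ) h1'
    simpa [Scheme.Hom.comp_appTop, ← Scheme.ΓSpecIso_inv_naturality_assoc] using this
  · have h2' : m ≫ Spec.map (inrHom X Y) = m' ≫ Spec.map (inrHom X Y) := by
      simpa [specTensSnd] using h2
    have := congrArg (fun φ => (Scheme.ΓSpecIso _).inv ≫ Scheme.Hom.appTop φ) h2'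
    simpa [Scheme.Hom.comp_appTop, ← Scheme.ΓSpecIso_inv_naturality_assoc] using this

end Groth.Agent.H5.Curve1.SepTens

namespace Groth.Agent.H5.Curve1.SepTens

open TensorProduct

variable {S X Y P : Scheme.{u}} [IsAffine X] [IsAffine Y]

/-- `Spec (Γ(X) ⊗ Γ(Y))` is the product of the affine schemes `X` and `Y`. -/
noncomputable def specTensIsLimit (X Y : Scheme.{u}) [IsAffine X] [IsAffine Y] :
    IsLimit (BinaryFan.mk (specTensFst X Y) (specTensSnd X Y)) :=
  BinaryFan.IsLimit.mk _ (fun t1 t2 => toSpecTens t1 t2)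
    (fun t1 t2 => toSpecTens_fst t1 t2) (fun t1 t2 => toSpecTens_snd t1 t2)
    (fun t1 t2 m h1 h2 => specTens_hom_ext
      (by simpa [toSpecTens_fst] using h1) (by simpa [toSpecTens_snd] using h2))

/-- The square exhibiting `X ×_S Y ⟶ Spec (Γ(X) ⊗ Γ(Y))` as base change of the diagonal of `S`. -/
lemma isPullback_toSpecTens (f : X ⟶ S) (g : Y ⟶ S) :
    IsPullback (pullback.fst f g ≫ f) (toSpecTens (pullback.fst f g) (pullback.snd f g))
      (prod.lift (𝟙 S) (𝟙 S)) (prod.lift (specTensFst X Y ≫ f) (specTensSnd X Y ≫ g)) := by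
  refine IsPullback.mk' ?_ ?_ ?_
  · apply Limits.prod.hom_ext
    · simp only [Category.assoc, prod.lift_fst, Category.comp_id]
      rw [← Category.assoc, toSpecTens_fst]
    · simp only [Category.assoc, prod.lift_snd, Category.comp_id]
      rw [← Category.assoc, toSpecTens_snd, pullback.condition]
  · intro T φ φ' _ h2
    apply pullback.hom_ext
    · have := congrArg (· ≫ specTensFst X Y) h2
      simpa only [Category.assoc, toSpecTens_fst] using this
    · have := congrArg (· ≫ specTensSnd X Y) h2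
      simpa only [Category.assoc, toSpecTens_snd] using this
  · intro T a b hab
    have h1 : a = (b ≫ specTensFst X Y) ≫ f := by
      have := congrArg (· ≫ prod.fst) hab
      simpa only [Category.assoc, prod.lift_fst, Category.comp_id] using this
    have h2 : a = (b ≫ specTensSnd X Y) ≫ g := by
      have := congrArg (· ≫ prod.snd) hab
      simpa only [Category.assoc, prod.lift_snd, Category.comp_id] using this
    refine ⟨pullback.lift (b ≫ specTensFst X Y) (b ≫ specTensSnd X Y) (by rw [← h1, ← h2]),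
      ?_, ?_⟩
    · rw [← Category.assoc, pullback.lift_fst, ← h1]
    · apply specTens_hom_ext
      · rw [Category.assoc, toSpecTens_fst, pullback.lift_fst]
      · rw [Category.assoc, toSpecTens_snd, pullback.lift_snd]

instance (f : X ⟶ S) (g : Y ⟶ S) : Mono (toSpecTens (pullback.fst f g) (pullback.snd f g)) := by
  constructor
  intro T φ φ' h
  apply pullback.hom_ext
  · have := congrArg (· ≫ specTensFst X Y) h
    simpa only [Category.assoc, toSpecTens_fst] using this
  · have := congrArg (· ≫ specTensSnd X Y) h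
    simpa only [Category.assoc, toSpecTens_snd] using this

instance [S.IsSeparated] (f : X ⟶ S) (g : Y ⟶ S) :
    IsClosedImmersion (toSpecTens (pullback.fst f g) (pullback.snd f g)) :=
  MorphismProperty.of_isPullback (isPullback_toSpecTens f g) inferInstance

lemma toSpecTens_eq_lift_comp (f : X ⟶ S) (g : Y ⟶ S) (p1 : P ⟶ X) (p2 : P ⟶ Y)
    (w : p1 ≫ f = p2 ≫ g) :
    toSpecTens p1 p2 = pullback.lift p1 p2 w ≫
      toSpecTens (pullback.fst f g) (pullback.snd f g) := by
  apply specTens_hom_ext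
  · rw [Category.assoc, toSpecTens_fst, toSpecTens_fst, pullback.lift_fst]
  · rw [Category.assoc, toSpecTens_snd, toSpecTens_snd, pullback.lift_snd]

/-- `P` is affine and `Γ(X) ⊗ Γ(Y) ⟶ Γ(P)` is surjective iff `P ⟶ Spec (Γ(X) ⊗ Γ(Y))` is a closed
immersion. -/
lemma affine_surjective_iff (p1 : P ⟶ X) (p2 : P ⟶ Y) :
    (IsAffine P ∧ Function.Surjective (Algebra.TensorProduct.productMap
      p1.appTop.hom.toIntAlgHom p2.appTop.hom.toIntAlgHom)) ↔
      IsClosedImmersion (toSpecTens p1 p2) := by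
  constructor
  · rintro ⟨hP, hs⟩
    have : IsClosedImmersion (Spec.map (prodRingMap p1 p2)) :=
      IsClosedImmersion.spec_of_surjective _ hs
    rw [toSpecTens, ← Scheme.isoSpec_hom]
    infer_instance
  · intro h
    obtain ⟨hP, hs⟩ := IsClosedImmersion.isAffine_surjective_of_isAffine (toSpecTens p1 p2)
    refine ⟨hP, ?_⟩
    have e : (Scheme.ΓSpecIso (tens X Y)).inv ≫ (toSpecTens p1 p2).appTop = prodRingMap p1 p2 := by
      rw [toSpecTens, Scheme.Hom.comp_appTop, Scheme.toSpecΓ_appTop,
        ← Scheme.ΓSpecIso_inv_naturality_assoc, Iso.inv_hom_id, Category.comp_id]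
    have h2 : Function.Surjective (prodRingMap p1 p2).hom := by
      rw [← e]
      exact hs.comp (ConcreteCategory.bijective_of_isIso (Scheme.ΓSpecIso (tens X Y)).inv).2
    exact h2

end Groth.Agent.H5.Curve1.SepTens

namespace Groth.Agent.H5.Curve1.SepTens

variable {S X Y : Scheme.{u}} [IsAffine X] [IsAffine Y]

/-- over a separated base, the fibre product of two affine schemes is affine and its ring of
functions is generated by the two rings of functions. -/
theorem isAffine_and_sup_eq_top [S.IsSeparated] (f : X ⟶ S) (g : Y ⟶ S) :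
    IsAffine (pullback f g) ∧
      (pullback.fst f g).appTop.hom.range ⊔ (pullback.snd f g).appTop.hom.range = ⊤ := by
  obtain ⟨h1, h2⟩ := (affine_surjective_iff (pullback.fst f g) (pullback.snd f g)).2 inferInstance
  refine ⟨h1, ?_⟩
  have key : ∀ t, (Algebra.TensorProduct.productMap
      (pullback.fst f g).appTop.hom.toIntAlgHom (pullback.snd f g).appTop.hom.toIntAlgHom) t ∈
      (pullback.fst f g).appTop.hom.range ⊔ (pullback.snd f g).appTop.hom.range := by
    intro t
    induction t using TensorProduct.induction_on with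
    | zero => rw [map_zero]; exact Subring.zero_mem _
    | tmul a b =>
      rw [Algebra.TensorProduct.productMap_apply_tmul]
      have ha : (pullback.fst f g).appTop.hom a ∈ (pullback.fst f g).appTop.hom.range ⊔
          (pullback.snd f g).appTop.hom.range :=
        SetLike.le_def.mp le_sup_left ⟨a, rfl⟩
      have hb : (pullback.snd f g).appTop.hom b ∈ (pullback.fst f g).appTop.hom.range ⊔
          (pullback.snd f g).appTop.hom.range :=
        SetLike.le_def.mp le_sup_right ⟨b, rfl⟩
      exact Subring.mul_mem _ ha hb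
    | add x y hx hy =>
      rw [map_add]
      exact Subring.add_mem _ hx hy
  rw [eq_top_iff]
  intro c _
  obtain ⟨t, rfl⟩ := h2 c
  exact key t

end Groth.Agent.H5.Curve1.SepTens
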