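import Mathlib
import Groth.Agent.Lib.Helper5.Curve1.SepTens

/-!
# The function field is generated by `Γ(U)` and `𝒪_{X,x}` for `x ∉ U` a point with one-dimensional
local ring on a separated integral scheme.
-/

set_option autoImplicit false
universe u
open CategoryTheory CategoryTheory.Limits AlgebraicGeometry TopologicalSpace

namespace Groth.Agent.H5.Curve1

variable {X : Scheme.{u}}

/-- a global function on a scheme all of whose germs are units is a unit. -/
lemma isUnit_of_forall_mem_basicOpen {P : Scheme.{u}} (c : Γ(P, ⊤))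
    (h : ∀ p : P, p ∈ P.basicOpen c) : IsUnit c := by
  apply RingedSpace.isUnit_of_isUnit_germ P.toRingedSpace ⊤ c
  intro p hp
  exact (P.mem_basicOpen c p hp).mp (h p)

theorem range_sup_range_eq_top [IsIntegral X] [X.IsSeparated] {U : X.Opens} (hU : IsAffineOpen U)
    [Nonempty U] (x : X) (hx : x ∉ U) [Ring.KrullDimLE 1 (X.presheaf.stalk x)] :
    (X.germToFunctionField U).hom.range ⊔
      (algebraMap (X.presheaf.stalk x) X.functionField).range = ⊤ := by
  have hηU : genericPoint X ∈ U :=
    ((genericPoint_spec X).mem_open_set_iff U.isOpen).mpr (by simpa using ‹Nonempty U›)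
  have hspec : genericPoint X ⤳ x := (genericPoint_spec X).specializes trivial
  haveI : IsAffine (U : Scheme.{u}) := hU
  obtain ⟨hP, hsup⟩ := SepTens.isAffine_and_sup_eq_top U.ι (X.fromSpecStalk x)
  let a1 : Spec X.functionField ⟶ U := U.fromSpecStalkOfMem (genericPoint X) hηU
  let a2 : Spec X.functionField ⟶ Spec (X.presheaf.stalk x) :=
    Spec.map (X.presheaf.stalkSpecializes hspec)
  have w : a1 ≫ U.ι = a2 ≫ X.fromSpecStalk x := by
    rw [Scheme.Opens.fromSpecStalkOfMem_ι, Scheme.SpecMap_stalkSpecializes_fromSpecStalk]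
  let σ := pullback.lift a1 a2 w
  let ρ : Γ(pullback U.ι (X.fromSpecStalk x), ⊤) →+* X.functionField :=
    (σ.appTop ≫ (Scheme.ΓSpecIso X.functionField).hom).hom
  -- compatibility with the second projection
  have hsnd : ∀ v : Γ(Spec (X.presheaf.stalk x), ⊤),
      ρ ((pullback.snd U.ι (X.fromSpecStalk x)).appTop.hom v) =
        algebraMap (X.presheaf.stalk x) X.functionField
          ((Scheme.ΓSpecIso (X.presheaf.stalk x)).hom.hom v) := by
    intro v
    have h1 : σ ≫ pullback.snd _ _ = a2 := pullback.lift_snd _ _ _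
    have h2 : (pullback.snd U.ι (X.fromSpecStalk x)).appTop ≫ σ.appTop = a2.appTop := by
      rw [← Scheme.Hom.comp_appTop, h1]
    have h3 : a2.appTop ≫ (Scheme.ΓSpecIso X.functionField).hom =
        (Scheme.ΓSpecIso (X.presheaf.stalk x)).hom ≫ X.presheaf.stalkSpecializes hspec :=
      Scheme.ΓSpecIso_naturality _
    have h4 : (pullback.snd U.ι (X.fromSpecStalk x)).appTop ≫ σ.appTop ≫
        (Scheme.ΓSpecIso X.functionField).hom =
        (Scheme.ΓSpecIso (X.presheaf.stalk x)).hom ≫ X.presheaf.stalkSpecializes hspec := by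
      rw [← Category.assoc, h2, h3]
    exact congrArg (fun φ => φ.hom v) h4
  -- compatibility with the first projection
  have hfst : ∀ u : Γ((U : Scheme.{u}), ⊤),
      ρ ((pullback.fst U.ι (X.fromSpecStalk x)).appTop.hom u) ∈
        (X.germToFunctionField U).hom.range := by
    intro u
    have h1 : σ ≫ pullback.fst _ _ = a1 := pullback.lift_fst _ _ _
    have h4 : a1 ≫ U.toSpecΓ = Spec.map (X.presheaf.germ U (genericPoint X) hηU) :=
      Scheme.Opens.fromSpecStalkOfMem_toSpecΓ ..
    haveI : IsIso U.toSpecΓ := by rw [← hU.isoSpec_hom]; infer_instance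
    haveI : IsIso U.toSpecΓ.appTop := by
      change IsIso (U.toSpecΓ.app ⊤)
      infer_instance
    obtain ⟨w, rfl⟩ : ∃ w, U.toSpecΓ.appTop.hom w = u :=
      (ConcreteCategory.bijective_of_isIso U.toSpecΓ.appTop).2 u
    refine ⟨(Scheme.ΓSpecIso _).hom.hom w, ?_⟩
    have h5 : U.toSpecΓ.appTop ≫ (pullback.fst U.ι (X.fromSpecStalk x)).appTop ≫ σ.appTop ≫
        (Scheme.ΓSpecIso X.functionField).hom =
        (Scheme.ΓSpecIso Γ(X, U)).hom ≫ X.presheaf.germ U (genericPoint X) hηU := by
      rw [← Scheme.ΓSpecIso_naturality, ← h4, ← h1]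
      simp only [Scheme.Hom.comp_appTop, Category.assoc]
    exact (congrArg (fun φ => φ.hom w) h5).symm
  -- the image of `ρ` lies in the compositum
  have hρ : ∀ c, ρ c ∈ (X.germToFunctionField U).hom.range ⊔
      (algebraMap (X.presheaf.stalk x) X.functionField).range := by
    intro c
    have hc : c ∈ (pullback.fst U.ι (X.fromSpecStalk x)).appTop.hom.range ⊔
        (pullback.snd U.ι (X.fromSpecStalk x)).appTop.hom.range := by
      rw [hsup]; exact Subring.mem_top c
    have h1 : ρ c ∈ ((pullback.fst U.ι (X.fromSpecStalk x)).appTop.hom.range ⊔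
        (pullback.snd U.ι (X.fromSpecStalk x)).appTop.hom.range).map ρ :=
      Subring.mem_map.mpr ⟨c, hc, rfl⟩
    rw [Subring.map_sup] at h1
    refine SetLike.le_def.mp (sup_le_sup ?_ ?_) h1
    · rintro _ ⟨_, ⟨u, rfl⟩, rfl⟩
      exact hfst u
    · rintro _ ⟨_, ⟨v, rfl⟩, rfl⟩
      exact ⟨_, (hsnd v).symm⟩
  -- points of the fibre product lie over the generic point of `Spec 𝒪_{X,x}`
  have hpt : ∀ p : ↥(pullback U.ι (X.fromSpecStalk x)),
      ((pullback.snd U.ι (X.fromSpecStalk x)) p).asIdeal = ⊥ := by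
    intro p
    by_contra hne
    have hmax : ((pullback.snd U.ι (X.fromSpecStalk x)) p).asIdeal.IsMaximal :=
      Ring.krullDimLE_one_iff_of_noZeroDivisors.mp inferInstance _ hne
        ((pullback.snd U.ι (X.fromSpecStalk x)) p).isPrime
    have h2 : (pullback.snd U.ι (X.fromSpecStalk x)) p =
        IsLocalRing.closedPoint (X.presheaf.stalk x) := by
      apply PrimeSpectrum.ext
      exact IsLocalRing.eq_maximalIdeal hmax
    have h3 : (X.fromSpecStalk x) ((pullback.snd U.ι (X.fromSpecStalk x)) p) = x := by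
      rw [h2]; exact Scheme.fromSpecStalk_closedPoint
    have h4 : (X.fromSpecStalk x) ((pullback.snd U.ι (X.fromSpecStalk x)) p) =
        U.ι ((pullback.fst U.ι (X.fromSpecStalk x)) p) := by
      rw [← Scheme.Hom.comp_apply, ← Scheme.Hom.comp_apply, pullback.condition]
    apply hx
    rw [← h3, h4]
    exact ((pullback.fst U.ι (X.fromSpecStalk x)) p).2
  -- inverses of nonzero elements of the local ring
  have hinv : ∀ b : X.presheaf.stalk x, b ≠ 0 →
      (algebraMap (X.presheaf.stalk x) X.functionField b)⁻¹ ∈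
        (X.germToFunctionField U).hom.range ⊔
          (algebraMap (X.presheaf.stalk x) X.functionField).range := by
    intro b hb
    let v : Γ(Spec (X.presheaf.stalk x), ⊤) := (Scheme.ΓSpecIso (X.presheaf.stalk x)).inv.hom b
    have hv : (Scheme.ΓSpecIso (X.presheaf.stalk x)).hom.hom v = b := by
      change ((Scheme.ΓSpecIso (X.presheaf.stalk x)).inv ≫
        (Scheme.ΓSpecIso (X.presheaf.stalk x)).hom).hom b = b
      rw [Iso.inv_hom_id]; rfl
    have hunit : IsUnit ((pullback.snd U.ι (X.fromSpecStalk x)).appTop.hom v) := by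
      apply isUnit_of_forall_mem_basicOpen
      intro p
      have h1 : (pullback.snd U.ι (X.fromSpecStalk x)) ⁻¹ᵁ
          ((Spec (X.presheaf.stalk x)).basicOpen v) =
          (pullback U.ι (X.fromSpecStalk x)).basicOpen
            ((pullback.snd U.ι (X.fromSpecStalk x)).appTop.hom v) :=
        Scheme.preimage_basicOpen _ _
      rw [← h1]
      change (pullback.snd U.ι (X.fromSpecStalk x)) p ∈
        (Spec (X.presheaf.stalk x)).basicOpen v
      rw [basicOpen_eq_of_affine]
      change b ∉ ((pullback.snd U.ι (X.fromSpecStalk x)) p).asIdeal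
      rw [hpt p]
      simpa using hb
    have h2 := hsnd v
    rw [hv] at h2
    have h3 : ρ ((pullback.snd U.ι (X.fromSpecStalk x)).appTop.hom v) *
        ρ (↑(hunit.unit⁻¹)) = 1 := by
      rw [← map_mul, IsUnit.mul_val_inv, map_one]
    rw [h2] at h3
    rw [← eq_inv_of_mul_eq_one_right h3]
    exact hρ _
  rw [eq_top_iff]
  intro z _
  obtain ⟨b1, b2, hb2, rfl⟩ := IsFractionRing.div_surjective (A := X.presheaf.stalk x) z
  rw [div_eq_mul_inv]
  exact Subring.mul_mem _ (SetLike.le_def.mp le_sup_right ⟨b1, rfl⟩)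
    (hinv b2 (nonZeroDivisors.ne_zero hb2))

end Groth.Agent.H5.Curve1
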