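import Mathlib
import Groth.Agent.Lib.Helper5.Curve1.A
import Groth.Agent.S1640

/-!
# A function on `U` with poles at all the finitely many one-dimensional points outside `U`.
-/

set_option autoImplicit false
universe u
open CategoryTheory CategoryTheory.Limits AlgebraicGeometry TopologicalSpace

namespace Groth.Agent.H5.Curve1

variable {X : Scheme.{u}}

lemma isFractionRing_range {R K : Type*} [CommRing R] [Field K] [Algebra R K] [IsFractionRing R K] :
    IsFractionRing (algebraMap R K).range K := by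
  refine IsFractionRing.of_field _ _ fun z => ?_
  obtain ⟨a, b, hb, rfl⟩ := IsFractionRing.div_surjective (A := R) z
  exact ⟨⟨algebraMap R K a, a, rfl⟩, ⟨algebraMap R K b, b, rfl⟩, rfl⟩

theorem exists_pole_function [IsIntegral X] [X.IsSeparated] {U : X.Opens} (hU : IsAffineOpen U)
    [Nonempty U] (hfin : ((U : Set X)ᶜ).Finite)
    (hloc : ∀ x : X, x ∉ U →
      IsNoetherianRing (X.presheaf.stalk x) ∧ ringKrullDim (X.presheaf.stalk x) = 1) :
    ∃ a : Γ(X, U), a ≠ 0 ∧ ∀ x : X, x ∉ U → ∃ b : X.presheaf.stalk x,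
      b ∈ IsLocalRing.maximalIdeal (X.presheaf.stalk x) ∧
        algebraMap (X.presheaf.stalk x) X.functionField b * X.germToFunctionField U a = 1 := by
  classical
  haveI : Finite ((U : Set X)ᶜ : Set X) := hfin
  let z : Fin (Nat.card ((U : Set X)ᶜ : Set X)) ≃ ((U : Set X)ᶜ : Set X) :=
    (Finite.equivFin _).symm
  have hz : ∀ i, (z i).1 ∉ U := fun i => (z i).2
  let A : Subring X.functionField := (algebraMap Γ(X, U) X.functionField).range
  let B : Fin (Nat.card ((U : Set X)ᶜ : Set X)) → Subring X.functionField := fun i =>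
    (algebraMap (X.presheaf.stalk (z i).1) X.functionField).range
  haveI : IsFractionRing Γ(X, U) X.functionField :=
    functionField_isFractionRing_of_isAffineOpen (X := X) U hU
  haveI hA : IsFractionRing A X.functionField := isFractionRing_range
  let e : ∀ i, X.presheaf.stalk (z i).1 ≃+* B i := fun i =>
    RingEquiv.ofBijective (algebraMap (X.presheaf.stalk (z i).1) X.functionField).rangeRestrict
      ⟨fun p q hpq => IsFractionRing.injective (X.presheaf.stalk (z i).1) X.functionField
          (congrArg Subtype.val hpq),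
        RingHom.rangeRestrict_surjective _⟩
  haveI hBn : ∀ i, IsNoetherianRing (B i) := fun i => by
    haveI := (hloc _ (hz i)).1
    exact isNoetherianRing_of_ringEquiv _ (e i)
  haveI hBf : ∀ i, IsFractionRing (B i) X.functionField := fun i => isFractionRing_range
  have hdim : ∀ i, ringKrullDim (B i) = 1 := fun i => by
    rw [← ringKrullDim_eq_of_ringEquiv (e i)]; exact (hloc _ (hz i)).2
  haveI hBl : ∀ i, IsLocalRing (B i) := fun i => (e i).isLocalRing
  have hsl : ∀ i, Finite (MaximalSpectrum (B i)) := fun i => by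
    haveI : Subsingleton (MaximalSpectrum (B i)) := ⟨fun m m' => by
      ext1
      rw [IsLocalRing.eq_maximalIdeal m.isMaximal, IsLocalRing.eq_maximalIdeal m'.isMaximal]⟩
    exact Finite.of_subsingleton
  have hgen : ∀ i, A ⊔ B i = ⊤ := fun i => by
    haveI : Ring.KrullDimLE 1 (X.presheaf.stalk (z i).1) :=
      Ring.krullDimLE_iff.mpr (by rw [(hloc _ (hz i)).2]; rfl)
    exact range_sup_range_eq_top hU (z i).1 (hz i)
  obtain ⟨f, hfA, hf0, hfi⟩ := Groth.Agent.S1640.result X.functionField A _ B hdim hsl hgen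
  obtain ⟨a, rfl⟩ := hfA
  refine ⟨a, fun h => hf0 (by rw [h, map_zero]), fun x hx => ?_⟩
  obtain ⟨i, rfl⟩ : ∃ i, (z i).1 = x := ⟨z.symm ⟨x, hx⟩, by rw [Equiv.apply_symm_apply]⟩
  obtain ⟨hmem, hjac⟩ := hfi i
  obtain ⟨b, hb⟩ := hmem
  refine ⟨b, ?_, ?_⟩
  · rw [IsLocalRing.jacobson_eq_maximalIdeal ⊥ bot_ne_top, IsLocalRing.mem_maximalIdeal,
      mem_nonunits_iff] at hjac
    rw [IsLocalRing.mem_maximalIdeal, mem_nonunits_iff]
    intro hu
    apply hjac
    have h1 : IsUnit (e i b) := hu.map (e i)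
    have h2 : (e i b) = ⟨(algebraMap Γ(X, U) X.functionField a)⁻¹, ⟨b, hb⟩⟩ := Subtype.ext hb
    rwa [h2] at h1
  · rw [hb]
    exact inv_mul_cancel₀ hf0

end Groth.Agent.H5.Curve1
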