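import Mathlib
import Groth.Agent.Lib.Helper5.Glue.F

/-!
# Invertible modules on an integral scheme from Cartier data in the function field.
-/

set_option autoImplicit false
universe u
open CategoryTheory CategoryTheory.Limits AlgebraicGeometry TopologicalSpace Opposite

namespace Groth.Agent.H5.Curve1

open Groth.Agent.LD Groth.Agent.H5.Glue

variable {X : Scheme.{u}} [IsIntegral X]

/-- the germ at the generic point. -/
noncomputable abbrev gK (V : X.Opens) (h : genericPoint X ∈ V) : Γ(X, V) →+* X.functionField :=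
  (X.presheaf.germ V (genericPoint X) h).hom

lemma gK_injective (V : X.Opens) (h : genericPoint X ∈ V) : Function.Injective (gK V h) :=
  germ_injective_of_isIntegral _ _ h

lemma gK_res {V V' : X.Opens} (hle : V' ≤ V) (h' : genericPoint X ∈ V') (r : Γ(X, V)) :
    gK V' h' (res hle r) = gK V (hle h') r :=
  X.presheaf.germ_res_apply (homOfLE hle) _ h' r

theorem exists_cartier {ι : Type u} (W : ι → X.Opens) (hW : iSup W = ⊤)
    (hη : ∀ α, genericPoint X ∈ W α) (φ : ι → X.functionField) (hφ : ∀ α, φ α ≠ 0)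
    (H : ∀ α β, ∃ u : Γ(X, W α ⊓ W β), gK (W α ⊓ W β) ⟨hη α, hη β⟩ u = φ β / φ α) :
    ∃ (L : X.Modules) (e : ∀ α, Γ(L, W α)), PicF.IsInvertible L ∧
      (∀ α, QC.IsBasisOver L (W α) (e α)) ∧
      ∀ (ψ : X.functionField) (a : ∀ α, Γ(X, W α)), (∀ α, gK _ (hη α) (a α) = ψ * φ α) →
        ∃ t : Γ(L, ⊤), ∀ α, mres L (le_top : W α ≤ ⊤) t = a α • e α := by
  choose η hηeq using H
  have hcoc : IsCocycle W η := by
    intro i j k
    apply gK_injective (W i ⊓ W j ⊓ W k) ⟨⟨hη i, hη j⟩, hη k⟩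
    rw [map_mul, gK_res, gK_res, gK_res, hηeq, hηeq, hηeq]
    field_simp [hφ i, hφ j, hφ k]
  have hone : ∀ i, η i i = 1 := by
    intro i
    apply gK_injective (W i ⊓ W i) ⟨hη i, hη i⟩
    rw [hηeq, map_one, div_self (hφ i)]
  have hu : ∀ i, IsUnit (η i i) := fun i => by rw [hone i]; exact isUnit_one
  refine ⟨glueMod W η, glueGen hcoc, isInvertible_glueMod hcoc hu hW,
    isBasisOver_glueGen hcoc hu, ?_⟩
  intro ψ a ha
  have hcompat : ∀ i j, mres (glueMod W η) (inf_le_left : W i ⊓ W j ≤ W i) (a i • glueGen hcoc i) =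
      mres (glueMod W η) (inf_le_right : W i ⊓ W j ≤ W j) (a j • glueGen hcoc j) := by
    intro i j
    rw [mres_smul, mres_smul]
    have h1 := glueGen_transition hcoc i j
    change mres (glueMod W η) _ (glueGen hcoc i) = η i j • mres (glueMod W η) _ (glueGen hcoc j) at h1
    rw [h1, smul_smul]
    congr 1
    apply gK_injective (W i ⊓ W j) ⟨hη i, hη j⟩
    rw [map_mul, gK_res, gK_res, hηeq, ha, ha]
    field_simp [hφ i, hφ j]
  obtain ⟨t, ht, -⟩ := existsUnique_glue_sec (glueMod W η) W hW (fun i => a i • glueGen hcoc i) hcompat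
  exact ⟨t, ht⟩

end Groth.Agent.H5.Curve1
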