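import Mathlib
import Groth.Agent.Lib.Helper5.Curve1.D

/-!
# Stacks 09NN with the two generating sections made explicit.
-/

set_option autoImplicit false
universe u
open CategoryTheory CategoryTheory.Limits AlgebraicGeometry TopologicalSpace Opposite

namespace Groth.Agent.H5.Curve1

open Groth.Agent.LD Groth.Agent.LD.QC Groth.Agent.H5.Glue

variable {X : Scheme.{u}}

/-- Stacks 09NN, explicit sections. -/
theorem exists_invertible_two_sections [IsIntegral X] [X.IsSeparated] (U : X.Opens) (hU : IsAffineOpen U)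
    (hne : (U : Set X).Nonempty) (hfin : ((U : Set X)ᶜ).Finite)
    (hloc : ∀ x : X, x ∉ U →
      IsNoetherianRing (X.presheaf.stalk x) ∧ ringKrullDim (X.presheaf.stalk x) = 1) :
    ∃ (L : X.Modules) (ts tt : Γ(L, ⊤)), PicF.IsInvertible L ∧
      CohB1.genLocus L (homOfSection L ts) = U ∧
      ∀ x : X, x ∉ U → x ∈ CohB1.genLocus L (homOfSection L tt) := by
  classical
  haveI : Nonempty U := ⟨⟨hne.some, hne.some_mem⟩⟩
  have hηU : genericPoint X ∈ U :=
    ((genericPoint_spec X).mem_open_set_iff U.isOpen).mpr (by simpa using ‹Nonempty U›)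
  obtain ⟨a, ha0, hpole⟩ := exists_pole_function hU hfin hloc
  have hf0 : gK U hηU a ≠ 0 := fun h => ha0 (gK_injective U hηU (by rw [h, map_zero]))
  choose b hbm hbf using hpole
  have hex : ∀ y : {x : X // x ∉ U}, ∃ (V : X.Opens) (hyV : y.1 ∈ V) (h : Γ(X, V)),
      X.presheaf.germ V y.1 hyV h = b y.1 y.2 :=
    fun y => X.presheaf.exists_germ_eq (b y.1 y.2)
  choose V hyV h hh using hex
  have hηV : ∀ y, genericPoint X ∈ V y := fun y =>
    ((genericPoint_spec X).specializes trivial).mem_open (V y).isOpen (hyV y)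
  have hKh : ∀ y, gK (V y) (hηV y) (h y) = (gK U hηU a)⁻¹ := by
    intro y
    haveI : Nonempty (V y) := ⟨⟨y.1, hyV y⟩⟩
    have h1 : algebraMap (X.presheaf.stalk y.1) X.functionField
        (X.presheaf.germ (V y) y.1 (hyV y) (h y)) = gK (V y) (hηV y) (h y) :=
      X.algebraMap_germ_eq_germToFunctionField (hyV y) (h y)
    rw [← h1, hh]
    exact eq_inv_of_mul_eq_one_left (hbf y.1 y.2)
  let W : Option {x : X // x ∉ U} → X.Opens := fun o => o.elim U V
  have hW : iSup W = ⊤ := by
    rw [eq_top_iff]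
    intro y _
    by_cases hy : y ∈ U
    · exact Opens.mem_iSup.mpr ⟨none, hy⟩
    · exact Opens.mem_iSup.mpr ⟨some ⟨y, hy⟩, hyV ⟨y, hy⟩⟩
  have hη : ∀ α, genericPoint X ∈ W α := fun α => by
    cases α with
    | none => exact hηU
    | some y => exact hηV y
  let φ : Option {x : X // x ∉ U} → X.functionField := fun o =>
    o.elim 1 (fun _ => (gK U hηU a)⁻¹)
  have hφ : ∀ α, φ α ≠ 0 := by
    intro α
    cases α with
    | none => exact one_ne_zero
    | some y => exact inv_ne_zero hf0
  have H : ∀ α β, ∃ u : Γ(X, W α ⊓ W β), gK (W α ⊓ W β) ⟨hη α, hη β⟩ u = φ β / φ α := by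
    intro α β
    cases α with
    | none =>
      cases β with
      | none =>
        refine ⟨1, ?_⟩
        change _ = (1 : X.functionField) / 1
        rw [map_one, div_one]
      | some y =>
        refine ⟨res (inf_le_right : U ⊓ V y ≤ V y) (h y), ?_⟩
        change _ = (gK U hηU a)⁻¹ / 1
        rw [div_one]
        exact (gK_res _ _ _).trans (hKh y)
    | some x =>
      cases β with
      | none =>
        refine ⟨res (inf_le_right : V x ⊓ U ≤ U) a, ?_⟩
        change _ = 1 / (gK U hηU a)⁻¹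
        rw [one_div, inv_inv]
        exact gK_res _ _ _
      | some y =>
        refine ⟨1, ?_⟩
        change _ = (gK U hηU a)⁻¹ / (gK U hηU a)⁻¹
        rw [map_one, div_self (inv_ne_zero hf0)]
  obtain ⟨L, e, hL, he, hsec⟩ := exists_cartier W hW hη φ hφ H
  obtain ⟨ts, hts⟩ := hsec 1
    (fun o => Option.rec (motive := fun o => Γ(X, W o)) (1 : Γ(X, U)) (fun y => h y) o)
    (by
      intro α
      cases α with
      | none =>
        change gK U hηU 1 = 1 * 1
        rw [map_one, one_mul]
      | some y =>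
        change gK (V y) (hηV y) (h y) = 1 * (gK U hηU a)⁻¹
        rw [one_mul, hKh])
  obtain ⟨tt, htt⟩ := hsec (gK U hηU a)
    (fun o => Option.rec (motive := fun o => Γ(X, W o)) a (fun y => (1 : Γ(X, V y))) o)
    (by
      intro α
      cases α with
      | none =>
        change gK U hηU a = gK U hηU a * 1
        rw [mul_one]
      | some y =>
        change gK (V y) (hηV y) 1 = gK U hηU a * (gK U hηU a)⁻¹
        rw [map_one, mul_inv_cancel₀ hf0])
  have F1 : U ≤ CohB1.genLocus L (homOfSection L ts) := by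
    rw [le_genLocus_iff_isBasisOver, val_homOfSection]
    have h1 := hts none
    change mres L (le_top : U ≤ ⊤) ts = (1 : Γ(X, U)) • (show Γ(L, U) from e none) at h1
    rw [one_smul] at h1
    change IsBasisOver L U (mres L (le_top : U ≤ ⊤) ts)
    rw [h1]
    exact he none
  have F2 : ∀ y, V y ≤ CohB1.genLocus L (homOfSection L tt) := by
    intro y
    rw [le_genLocus_iff_isBasisOver, val_homOfSection]
    have h1 := htt (some y)
    change mres L (le_top : V y ≤ ⊤) tt = (1 : Γ(X, V y)) • (show Γ(L, V y) from e (some y)) at h1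
    rw [one_smul] at h1
    change IsBasisOver L (V y) (mres L (le_top : V y ≤ ⊤) tt)
    rw [h1]
    exact he (some y)
  have F3 : CohB1.genLocus L (homOfSection L ts) ≤ U := by
    intro x hx
    by_contra hxU
    have h1 : SecTwist.val (homOfSection L ts) (V ⟨x, hxU⟩) =
        h ⟨x, hxU⟩ • (show Γ(L, V ⟨x, hxU⟩) from e (some ⟨x, hxU⟩)) := by
      rw [val_homOfSection]
      exact hts (some ⟨x, hxU⟩)
    have h2 := genLocus_inf_eq_basicOpen (homOfSection L ts) (he (some ⟨x, hxU⟩)) (h ⟨x, hxU⟩) h1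
    have h3 : x ∈ X.basicOpen (h ⟨x, hxU⟩) := h2.le ⟨hx, hyV ⟨x, hxU⟩⟩
    rw [Scheme.mem_basicOpen _ _ _ (hyV ⟨x, hxU⟩), hh] at h3
    exact (IsLocalRing.mem_maximalIdeal _).mp (hbm x hxU) h3
  exact ⟨L, ts, tt, hL, le_antisymm F3 F1, fun x hx => F2 ⟨x, hx⟩ (hyV ⟨x, hx⟩)⟩

end Groth.Agent.H5.Curve1
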