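import Mathlib
import Groth.Agent.Lib.Helper5.Curve1.E
import Groth.Agent.Lib.Lead.QC.SepAmple
import Groth.Agent.Lib.Lead.QC.FreeData

/-!
# Existence of an ample invertible module on one-dimensional integral separated schemes.
-/

set_option autoImplicit false
universe u
open CategoryTheory CategoryTheory.Limits AlgebraicGeometry TopologicalSpace Opposite

namespace Groth.Agent.H5.Curve1

open Groth.Agent.LD Groth.Agent.LD.QC Groth.Agent.H5.Glue

variable {X : Scheme.{u}}

/-- `N` is invertible, generated by global sections at every point and has affine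
non-vanishing loci of sections around the points of `V`. -/
def AmpleOn (N : X.Modules) (V : Set X) : Prop :=
  PicF.IsInvertible N ∧ (∀ x : X, ∃ σ : unitMod X ⟶ N, x ∈ CohB1.genLocus N σ) ∧
    ∀ x ∈ V, ∃ σ : unitMod X ⟶ N, x ∈ CohB1.genLocus N σ ∧ IsAffineOpen (CohB1.genLocus N σ)

lemma AmpleOn.mono {N : X.Modules} {V V' : Set X} (h : AmpleOn N V) (hle : V' ⊆ V) :
    AmpleOn N V' :=
  ⟨h.1, h.2.1, fun x hx => h.2.2 x (hle hx)⟩

lemma AmpleOn.tensor {N N' : X.Modules} {V V' : Set X} (h : AmpleOn N V) (h' : AmpleOn N' V') :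
    AmpleOn (CohB1.tensorMod N N') (V ∪ V') := by
  refine ⟨isInvertible_tensorMod h.1 h'.1, fun x => ?_, fun x hx => ?_⟩
  · obtain ⟨σ, hσ⟩ := h.2.1 x
    obtain ⟨σ', hσ'⟩ := h'.2.1 x
    exact ⟨SecTwist.tmulHom σ σ', by rw [genLocus_tmulHom h.1 h'.1]; exact ⟨hσ, hσ'⟩⟩
  · rcases hx with hx | hx
    · obtain ⟨σ, hσ, haff⟩ := h.2.2 x hx
      obtain ⟨σ', hσ'⟩ := h'.2.1 x
      refine ⟨SecTwist.tmulHom σ σ', ?_, ?_⟩
      · rw [genLocus_tmulHom h.1 h'.1]; exact ⟨hσ, hσ'⟩
      · rw [genLocus_tmulHom h.1 h'.1, inf_comm]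
        exact isAffineOpen_genLocus_inf N' h'.1 σ' haff
    · obtain ⟨σ, hσ⟩ := h.2.1 x
      obtain ⟨σ', hσ', haff⟩ := h'.2.2 x hx
      refine ⟨SecTwist.tmulHom σ σ', ?_, ?_⟩
      · rw [genLocus_tmulHom h.1 h'.1]; exact ⟨hσ, hσ'⟩
      · rw [genLocus_tmulHom h.1 h'.1]
        exact isAffineOpen_genLocus_inf N h.1 σ haff

lemma ampleOn_unit_empty (X : Scheme.{u}) : AmpleOn (unitMod X) (∅ : Set X) := by
  refine ⟨isInvertible_unit X, fun x => ⟨𝟙 _, ?_⟩, fun x hx => hx.elim⟩
  have h : (⊤ : X.Opens) ≤ CohB1.genLocus (unitMod X) (𝟙 _) := by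
    rw [le_genLocus_iff]
    intro V _
    have : (𝟙 (unitMod X) : unitMod X ⟶ unitMod X).app V = 𝟙 _ := rfl
    rw [this]
    exact Function.bijective_id
  exact h trivial

theorem isAmple_of_ampleOn_univ [CompactSpace X] {N : X.Modules} (h : AmpleOn N Set.univ) :
    CohB1.IsAmple N := by
  refine ⟨h.1, inferInstance, fun x => ?_⟩
  obtain ⟨σ, hσ, haff⟩ := h.2.2 x trivial
  refine ⟨0, σ ≫ (unitorL' N).inv, ?_, ?_⟩
  · have := genLocus_comp_iso σ (unitorL' N).symm
    rw [Iso.symm_hom] at this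
    change x ∈ CohB1.genLocus (CohB1.tensorMod (unitMod X) N) (σ ≫ (unitorL' N).inv)
    rw [this]; exact hσ
  · have := genLocus_comp_iso σ (unitorL' N).symm
    rw [Iso.symm_hom] at this
    change IsAffineOpen (CohB1.genLocus (CohB1.tensorMod (unitMod X) N) (σ ≫ (unitorL' N).inv))
    rw [this]; exact haff

/-- an integral separated quasi-compact scheme whose non-generic points have one-dimensional
Noetherian local rings and whose proper closed subsets are finite has an ample invertible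
module. -/
theorem exists_isAmple_of_dim_one [IsIntegral X] [X.IsSeparated] [CompactSpace X]
    (hfin : ∀ U : X.Opens, (U : Set X).Nonempty → ((U : Set X)ᶜ).Finite)
    (hloc : ∀ x : X, x ≠ genericPoint X →
      IsNoetherianRing (X.presheaf.stalk x) ∧ ringKrullDim (X.presheaf.stalk x) = 1) :
    ∃ N : X.Modules, CohB1.IsAmple N := by
  have key : ∃ N : X.Modules, AmpleOn N Set.univ := by
    refine isCompact_univ.induction_on (p := fun V => ∃ N : X.Modules, AmpleOn N V)
      ⟨unitMod X, ampleOn_unit_empty X⟩ ?_ ?_ ?_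
    · rintro s t hst ⟨N, hN⟩
      exact ⟨N, hN.mono hst⟩
    · rintro s t ⟨N, hN⟩ ⟨N', hN'⟩
      exact ⟨_, hN.tensor hN'⟩
    · intro x _
      obtain ⟨_, ⟨U, hU, rfl⟩, hxU, -⟩ :=
        X.isBasis_affineOpens.exists_subset_of_mem_open (Set.mem_univ x) isOpen_univ
      have hne : (U : Set X).Nonempty := ⟨x, hxU⟩
      have hηU : genericPoint X ∈ U :=
        ((genericPoint_spec X).mem_open_set_iff U.isOpen).mpr (by simpa using hne)
      obtain ⟨L, ts, tt, hL, hs, ht⟩ := exists_invertible_two_sections U hU hne (hfin U hne)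
        (fun y hy => hloc y (fun h => hy (h ▸ hηU)))
      refine ⟨U, mem_nhdsWithin_of_mem_nhds (U.isOpen.mem_nhds hxU), L, hL, fun y => ?_,
        fun y hy => ?_⟩
      · by_cases hy : y ∈ U
        · exact ⟨homOfSection L ts, by rw [hs]; exact hy⟩
        · exact ⟨homOfSection L tt, ht y hy⟩
      · exact ⟨homOfSection L ts, by rw [hs]; exact hy, by rw [hs]; exact hU⟩
  obtain ⟨N, hN⟩ := key
  exact ⟨N, isAmple_of_ampleOn_univ hN⟩

end Groth.Agent.H5.Curve1
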