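import Mathlib
import Groth.Agent.Lib.Helper5.Curve1.F
import Groth.Agent.Lib.Lead.Curve.Rank

/-!
# Integral Noetherian schemes of dimension one: topology, local rings, ample modules.
-/

set_option autoImplicit false
universe u
open CategoryTheory CategoryTheory.Limits AlgebraicGeometry TopologicalSpace Opposite

namespace Groth.Agent.H5.Curve1

open Groth.Agent.LD Groth.Agent.LD.QC

variable {X : Scheme.{u}} [IsIntegral X]

lemma ringKrullDim_stalk_eq_one (hdim : topologicalKrullDim X ≤ 1) (x : X)
    (hx : x ≠ genericPoint X) : ringKrullDim (X.presheaf.stalk x) = 1 := by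
  apply le_antisymm ((Curve.ringKrullDim_stalk_le X x).trans hdim)
  rw [ringKrullDim_stalk_eq_coheight]
  have h0 : Order.coheight x ≠ 0 := by
    rw [Order.coheight_ne_zero]
    intro hmax
    have h1 : x ≤ genericPoint X := (genericPoint_spec X).specializes trivial
    have h2 : genericPoint X ≤ x := hmax h1
    have h1' : genericPoint X ⤳ x := h1
    have h2' : x ⤳ genericPoint X := h2
    exact hx (h2'.antisymm h1').eq
  exact_mod_cast Order.one_le_iff_ne_zero.mpr h0

lemma finite_compl_of_nonempty [NoetherianSpace X] (hdim : topologicalKrullDim X ≤ 1)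
    (U : X.Opens) (hU : (U : Set X).Nonempty) : ((U : Set X)ᶜ).Finite := by
  have hηU : genericPoint X ∈ U :=
    ((genericPoint_spec X).mem_open_set_iff U.isOpen).mpr (by simpa using hU)
  obtain ⟨S, hSf, hSc, hSi, hSU⟩ :=
    NoetherianSpace.exists_finite_set_isClosed_irreducible (U.isOpen.isClosed_compl)
  rw [hSU]
  refine Set.Finite.sUnion hSf fun t ht => ?_
  obtain ⟨g, hg⟩ := QuasiSober.sober (hSi t ht) (hSc t ht)
  have hgt : g ∈ t := by
    have := hg.mem
    exact this
  have hgU : g ∉ U := by
    have h1 : t ⊆ (U : Set X)ᶜ := by rw [hSU]; exact Set.subset_sUnion_of_mem ht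
    exact h1 hgt
  have hgη : g ≠ genericPoint X := fun h => hgU (h ▸ hηU)
  have hcl := Curve.isClosed_singleton_of_ne_genericPoint hdim g hgη
  have : t = {g} := by
    rw [← hg.def, hcl.closure_eq]
  rw [this]
  exact Set.finite_singleton g

/-- an integral Noetherian separated scheme of dimension at most one has an ample invertible
module. -/
theorem exists_isAmple_of_integral [IsNoetherian X] [X.IsSeparated]
    (hdim : topologicalKrullDim X ≤ 1) : ∃ N : X.Modules, CohB1.IsAmple N :=
  exists_isAmple_of_dim_one (fun U hU => finite_compl_of_nonempty hdim U hU)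
    (fun x hx => ⟨inferInstance, ringKrullDim_stalk_eq_one hdim x hx⟩)

end Groth.Agent.H5.Curve1
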